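import Cfsg.Agent.Lib.KerFit.Group
import Cfsg.Agent.Lib.BlockT.Inflate

/-!
# Larger degree, smaller kernel (Isaacs, Chapter 12)
-/

set_option autoImplicit false

namespace Cfsg.Agent.Lib.KerFit.Main

open Cfsg Module
open Cfsg.Agent.Lib.Char.Basic Cfsg.Agent.Lib.Char.Ortho Cfsg.Agent.Lib.Char.Complete
open Cfsg.Agent.Lib.Char.Induced Cfsg.Agent.Lib.Char.Clifford Cfsg.Agent.Lib.Char.Degree
open Cfsg.Agent.Lib.Char.Linear
open Cfsg.Agent.Lib.BlockT.SylowIn
open Cfsg.Agent.Lib.KerFit.Group
open scoped ComplexConjugate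

universe u

section

variable {G : Type u} [Group G]

/-- A character restricted to a supplement of a subgroup of its kernel stays irreducible. -/
theorem isIrr_restrict_of_sup [Finite G] {χ : G → ℂ} (hχ : IsIrrCharacter G χ) {K N : Subgroup G}
    [K.Normal] (hK : ∀ k ∈ K, χ k = χ 1) (hKN : K ⊔ N = ⊤) :
    IsIrrCharacter N (fun n : N => χ n) := by
  obtain ⟨φ, hφ, rfl⟩ := isIrrCharacter_descend (QuotientGroup.mk' K) (QuotientGroup.mk'_surjective K)
    hχ (fun k hk => hK k (by rwa [QuotientGroup.ker_mk'] at hk))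
  let f : N →* G ⧸ K := (QuotientGroup.mk' K).comp N.subtype
  have hf : Function.Surjective f := by
    intro q
    obtain ⟨g, rfl⟩ := QuotientGroup.mk'_surjective K q
    have hg : g ∈ ((K ⊔ N : Subgroup G) : Set G) := by
      rw [hKN]
      exact Subgroup.mem_top g
    rw [Subgroup.normal_mul] at hg
    obtain ⟨k, hk, n, hn, rfl⟩ := Set.mem_mul.mp hg
    refine ⟨⟨n, hn⟩, ?_⟩
    change ((n : G) : G ⧸ K) = ((k * n : G) : G ⧸ K)
    rw [QuotientGroup.eq]
    have : (n : G)⁻¹ * (k * n) = n⁻¹ * k * n⁻¹⁻¹ := by group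
    rw [this]
    exact Subgroup.Normal.conj_mem inferInstance k hk _
  exact isIrrCharacter_comp f hf hφ

/-- A character is constant on cosets of a subgroup of its kernel. -/
theorem char_ker_mul [Finite G] {χ : G → ℂ} (hχ : IsCharacter G χ) {k : G} (hk : χ k = χ 1) (g : G) :
    χ (k * g) = χ g := by
  obtain ⟨n, ρ, rfl⟩ := hχ
  have h1 := (character_eq_one_iff ρ k).mp hk
  simp only [Representation.character, map_mul, h1, one_mul]

variable [Fintype G]

/-- The kernel of a character lies in the kernel of each irreducible constituent. -/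
theorem ker_of_constituent {α θ : G → ℂ} (hα : IsCharacter G α) (hθ : IsIrrCharacter G θ)
    (h : classInner α θ ≠ 0) {y : G} (hy : α y = α 1) : θ y = θ 1 := by
  have hβ := isCharacter_sub_of_classInner_ne_zero hα hθ h
  have hθc := isCharacter_of_isIrrCharacter hθ
  have h1 := norm_le_charDegree hθc y
  have h2 := norm_le_charDegree hβ y
  have h3 := charDegree_natCast hθc
  have h4 := charDegree_natCast hβ
  set a := charDegree θ
  set b := charDegree (α - θ)
  have h5 : θ y + (α - θ) y = (a : ℂ) + b := by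
    rw [h3, h4]
    simp [hy]
  have h6 := congrArg Complex.re h5
  simp only [Complex.add_re, Complex.natCast_re] at h6
  have h7 := Complex.re_le_norm (θ y)
  have h8 := Complex.re_le_norm ((α - θ) y)
  have h9 : (θ y).re = a := by linarith
  have h10 : (θ y).im = 0 := by
    have h11 : ‖θ y‖ ^ 2 = (θ y).re ^ 2 + (θ y).im ^ 2 := by
      rw [Complex.sq_norm, Complex.normSq_apply]
      ring
    have h12 : (0 : ℝ) ≤ a := Nat.cast_nonneg _
    have h13 : ‖θ y‖ ^ 2 ≤ (a : ℝ) ^ 2 := by
      apply pow_le_pow_left₀ (norm_nonneg _) h1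
    rw [h9] at h11
    nlinarith [sq_nonneg (θ y).im]
  apply Complex.ext
  · rw [h9, ← h3]
    simp
  · rw [h10, ← h3]
    simp

/-- If all constituents of the induced character have the same degree, `χ` vanishes off the
core. -/
theorem vanish_of_no_larger {χ : G → ℂ} (hχ : IsIrrCharacter G χ) (N : Subgroup G) [Fintype N]
    (hθ : IsIrrCharacter N (fun n : N => χ n))
    (hno : ∀ ψ : IrrCharacter G, classInner (fun n : N => (ψ : G → ℂ) n) (fun n : N => χ n) ≠ 0 →
      charDegree (ψ : G → ℂ) ≤ charDegree χ)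
    (n : N) (hn : χ n ≠ 0) (x : G) : x⁻¹ * (n : G) * x ∈ N := by
  classical
  have := finite_irrCharacter (G := G)
  letI := Fintype.ofFinite (IrrCharacter G)
  set θ : N → ℂ := fun n : N => χ n with hθdef
  set Φ := indFun N θ with hΦ
  have hΦc : IsClassFunction G Φ := isClassFunction_indFun N θ
  have hexp := classFunction_eq_sum hΦc
  set c : ℂ := ∑ ψ : IrrCharacter G, classInner Φ (ψ : G → ℂ) with hc
  have hχc := isCharacter_of_isIrrCharacter hχ
  have hterm : ∀ (m : N) (ψ : IrrCharacter G), classInner Φ (ψ : G → ℂ) * (ψ : G → ℂ) m =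
      classInner Φ (ψ : G → ℂ) * θ m := by
    intro m ψ
    by_cases h0 : classInner Φ (ψ : G → ℂ) = 0
    · rw [h0, zero_mul, zero_mul]
    · have hψc := isCharacter_of_isIrrCharacter ψ.2
      have hcl : classInner Φ (ψ : G → ℂ) =
          classInner θ (fun h : N => (ψ : G → ℂ) h) :=
        classInner_indFun_left N θ _ (isClassFunction_of_isCharacter hψc)
      rw [hcl] at h0
      have h1 : classInner (fun h : N => (ψ : G → ℂ) h) θ ≠ 0 := classInner_ne_zero_comm h0
      have hres : IsCharacter N (fun h : N => (ψ : G → ℂ) h) := isCharacter_restrict N hψc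
      have hdeg1 : (fun h : N => (ψ : G → ℂ) h) 1 = (charDegree (ψ : G → ℂ) : ℂ) := by
        simpa using (charDegree_natCast hψc).symm
      have hdeg2 : θ 1 = (charDegree χ : ℂ) := by
        simpa [hθdef] using (charDegree_natCast hχc).symm
      have h2 := eq_of_constituent_of_deg_le hres hθ h1 hdeg1 hdeg2 (hno ψ h1)
      have h3 : (ψ : G → ℂ) m = θ m := congrFun h2 m
      rw [h3]
  have hval : ∀ m : N, Φ m = c * θ m := by
    intro m
    conv_lhs => rw [hexp]
    rw [hc, Finset.sum_mul]
    simp only [Finset.sum_apply, Pi.smul_apply, smul_eq_mul]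
    exact Finset.sum_congr rfl fun ψ _ => hterm m ψ
  have hθ1 : θ 1 ≠ 0 := irr_one_ne_zero hθ
  have hcval : c = (N.index : ℂ) := by
    have h1 := hval 1
    have h2 : Φ 1 = (N.index : ℂ) * θ 1 := indFun_one N θ
    simp only [OneMemClass.coe_one] at h1
    rw [h2] at h1
    exact (mul_right_cancel₀ hθ1 h1).symm
  have hΦn := hval n
  rw [hcval] at hΦn
  -- the direct computation
  have hsum : Φ n = (Nat.card N : ℂ)⁻¹ *
      (((Finset.univ.filter fun x : G => x⁻¹ * (n : G) * x ∈ N).card : ℂ) * χ n) := by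
    rw [hΦ, indFun_apply]
    congr 1
    have h1 : ∀ x : G, extendByZero N θ (x⁻¹ * (n : G) * x) =
        (if x⁻¹ * (n : G) * x ∈ N then 1 else 0) * χ n := by
      intro x
      by_cases hx : x⁻¹ * (n : G) * x ∈ N
      · rw [extendByZero_of_mem N θ hx, if_pos hx, one_mul]
        have := isClassFunction_of_isCharacter hχc (n : G) x⁻¹
        simp only [inv_inv] at this
        exact this
      · rw [extendByZero_of_not_mem N θ hx, if_neg hx, zero_mul]
    simp only [h1]
    rw [← Finset.sum_mul, Finset.sum_boole]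
  rw [hsum] at hΦn
  have hθn : θ n = χ n := rfl
  rw [hθn] at hΦn
  have hcard : (((Finset.univ.filter fun x : G => x⁻¹ * (n : G) * x ∈ N).card : ℕ) : ℂ) =
      ((Nat.card N * N.index : ℕ) : ℂ) := by
    have hNc := card_subgroup_ne_zero N
    have h1 : (Nat.card N : ℂ)⁻¹ * ((Finset.univ.filter fun x : G => x⁻¹ * (n : G) * x ∈ N).card : ℂ)
        = (N.index : ℂ) := by
      have h2 := hΦn
      rw [← mul_assoc] at h2
      exact mul_right_cancel₀ hn h2
    push_cast
    rw [← h1]
    field_simp
  have hcard' : (Finset.univ.filter fun x : G => x⁻¹ * (n : G) * x ∈ N).card = (Finset.univ : Finset G).card := by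
    have h1 : (Finset.univ.filter fun x : G => x⁻¹ * (n : G) * x ∈ N).card = Nat.card N * N.index := by
      exact_mod_cast hcard
    rw [h1, Finset.card_univ, ← Nat.card_eq_fintype_card, Subgroup.card_mul_index]
  have hfil := Finset.card_filter_eq_iff.mp hcard'
  exact hfil x (Finset.mem_univ x)

end

/-- **Larger degree, smaller kernel.** -/
theorem exists_larger_degree_smaller_kernel {G : Type u} [Group G] [Finite G] (χ : IrrCharacter G)
    (K : Subgroup G) [hKn : K.Normal] (hK : ∀ g : G, g ∈ K ↔ (χ : G → ℂ) g = (χ : G → ℂ) 1)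
    (h : ¬ K ≤ fittingSubgroup G ∨ (K = fittingSubgroup G ∧ Group.IsSolvable (G ⧸ K) ∧ K ≠ ⊤)) :
    ∃ ψ : IrrCharacter G, charDegree (χ : G → ℂ) < charDegree (ψ : G → ℂ) ∧
      ∃ L : Subgroup G, (∀ g : G, g ∈ L ↔ (ψ : G → ℂ) g = (ψ : G → ℂ) 1) ∧ L < K := by
  classical
  letI := Fintype.ofFinite G
  obtain ⟨M, X, r, hMn, hr, hX, hMK, hXn, hcase⟩ := exists_data K h
  have hfr : Fact r.Prime := ⟨hr⟩
  set N := Subgroup.normalizer (X : Set G) with hN
  letI : Fintype N := Fintype.ofFinite _
  have hKM : K ≤ M := hMK ▸ le_sup_left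
  have hXN : X ≤ N := Subgroup.le_normalizer
  have hKN : K ⊔ N = ⊤ := by
    obtain ⟨S, hS⟩ := id hX
    have h1 := Sylow.normalizer_sup_eq_top S
    rw [eq_top_iff] at h1 ⊢
    refine h1.trans ?_
    rw [hS]
    refine sup_le le_sup_right ?_
    rw [hMK]
    exact sup_le le_sup_left (hXN.trans le_sup_right)
  have hχ := χ.2
  have hχc := isCharacter_of_isIrrCharacter hχ
  have hKk : ∀ k ∈ K, (χ : G → ℂ) k = (χ : G → ℂ) 1 := fun k hk => (hK k).mp hk
  have hθ : IsIrrCharacter N (fun n : N => (χ : G → ℂ) n) := isIrr_restrict_of_sup hχ hKk hKN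
  by_cases hex : ∃ ψ : IrrCharacter G,
      classInner (fun n : N => (ψ : G → ℂ) n) (fun n : N => (χ : G → ℂ) n) ≠ 0 ∧
      charDegree (χ : G → ℂ) < charDegree (ψ : G → ℂ)
  · obtain ⟨ψ, hcon, hdeg⟩ := hex
    have hψc := isCharacter_of_isIrrCharacter ψ.2
    refine ⟨ψ, hdeg, charKer hψc, fun g => Iff.rfl, ?_⟩
    have hres : IsCharacter N (fun h : N => (ψ : G → ℂ) h) := isCharacter_restrict N hψc
    have hle : charKer hψc ≤ K := by
      apply le_of_inf_normalizer_le hX hMK
      rintro y ⟨hy1, hy2⟩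
      have h1 : (fun h : N => (ψ : G → ℂ) h) ⟨y, hy2⟩ = (fun h : N => (ψ : G → ℂ) h) 1 := hy1
      have h2 := ker_of_constituent hres hθ hcon h1
      exact (hK y).mpr h2
    refine lt_of_le_of_ne hle ?_
    intro heq
    have hKψ : ∀ k ∈ K, (ψ : G → ℂ) k = (ψ : G → ℂ) 1 := by
      intro k hk
      rw [← heq] at hk
      exact hk
    have hψN : IsIrrCharacter N (fun n : N => (ψ : G → ℂ) n) := isIrr_restrict_of_sup ψ.2 hKψ hKN
    have h1 : (fun n : N => (ψ : G → ℂ) n) = (fun n : N => (χ : G → ℂ) n) := by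
      by_contra hne
      exact hcon (classInner_eq_zero_of_isIrr_of_ne hψN hθ hne)
    have h2 := congrFun h1 1
    simp only [OneMemClass.coe_one] at h2
    have h3 : charDegree (ψ : G → ℂ) = charDegree (χ : G → ℂ) := by
      rw [charDegree, charDegree, h2]
    omega
  · exfalso
    push Not at hex
    have hvan := vanish_of_no_larger hχ N hθ hex
    have hvan' : ∀ n ∈ N, (χ : G → ℂ) n ≠ 0 → n ∈ N.normalCore := by
      intro n hn hne
      intro b
      have := hvan ⟨n, hn⟩ hne b⁻¹
      simpa using this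
    rcases hcase with hMeq | ⟨hlt, hnil, hchief⟩
    · apply hXn
      apply normal_of_le_normalCore hX
      intro x hx
      have hxK : x ∈ K := by
        rw [← hMeq]
        exact hX.le hx
      apply hvan' x (hXN hx)
      rw [hKk x hxK]
      exact Cfsg.Agent.Lib.Char.Complete.irr_one_ne_zero hχ
    · have hXC : ¬ X ≤ N.normalCore := fun hc => hXn (normal_of_le_normalCore hX hc)
      have hQ := inf_core_le hX hMK hnil hchief hXC
      -- `χ` vanishes on `M \ K`
      have hzero : ∀ m ∈ M, m ∉ K → (χ : G → ℂ) m = 0 := by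
        intro m hm hmK
        have hm' : m ∈ ((K ⊔ X : Subgroup G) : Set G) := by
          rw [← hMK]
          exact hm
        rw [Subgroup.normal_mul] at hm'
        obtain ⟨k, hk, x, hx, rfl⟩ := Set.mem_mul.mp hm'
        rw [char_ker_mul hχc (hKk k hk)]
        by_contra hne
        have hxC := hvan' x (hXN hx) hne
        have hxK : x ∈ K := hQ ⟨hxC, hX.le hx⟩
        exact hmK (K.mul_mem hk hxK)
      letI : Fintype M := Fintype.ofFinite _
      have hcon : classInner (fun m : M => (χ : G → ℂ) m) (fun _ => (1 : ℂ)) ≠ 0 := by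
        rw [classInner]
        have h1 : ∀ m : M, (χ : G → ℂ) m * conj (1 : ℂ) =
            (if (m : G) ∈ K then 1 else 0) * (χ : G → ℂ) 1 := by
          intro m
          rw [map_one, mul_one]
          by_cases hm : (m : G) ∈ K
          · rw [if_pos hm, one_mul, hKk _ hm]
          · rw [if_neg hm, zero_mul, hzero _ m.2 hm]
        simp only [h1]
        rw [← Finset.sum_mul, Finset.sum_boole]
        refine mul_ne_zero (inv_ne_zero (card_subgroup_ne_zero M)) (mul_ne_zero ?_
          (Cfsg.Agent.Lib.Char.Complete.irr_one_ne_zero hχ))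
        rw [Nat.cast_ne_zero, Finset.card_ne_zero]
        exact ⟨1, by simp [K.one_mem]⟩
      have htriv := Cfsg.Agent.Lib.BlockT.Inflate.trivial_of_constituent_one hMn hχ hcon
      apply hlt.not_ge
      intro m hm
      exact (hK m).mpr (htriv ⟨m, hm⟩)

end Cfsg.Agent.Lib.KerFit.Main
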