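import Cfsg.Agent.Lib.CharDeep.MaxInd
import Cfsg.Agent.Lib.BlockT.SylowIn
import Cfsg.Agent.Lib.Core.Basic

/-!
# Group theory for "larger degree, smaller kernel" (Isaacs, Chapter 12)

Given `K ⊲ G` not nilpotent or `K = F(G) < G` with `G / K` solvable, we produce `M ⊲ G` with
`M = K X` for a Sylow `r`-subgroup `X` of `M` which is not normal in `G`.
-/

set_option autoImplicit false

namespace Cfsg.Agent.Lib.KerFit.Group

open Cfsg
open Cfsg.Agent.Lib.BlockT.SylowIn
open Cfsg.Agent.Lib.CharDeep.MaxInd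
open Cfsg.Agent.Lib.Core.Basic

variable {G : Type*} [Group G] [Finite G]

/-- Index over a join with a normal subgroup. -/
theorem relIndex_sup_normal (X T : Subgroup G) [hT : T.Normal] :
    X.relIndex (X ⊔ T) = X.relIndex T := by
  have h1 : (X ⊓ T).relIndex X * X.relIndex (X ⊔ T) = (X ⊓ T).relIndex (X ⊔ T) :=
    Subgroup.relIndex_mul_relIndex _ _ _ inf_le_left le_sup_left
  have h2 : (X ⊓ T).relIndex T * T.relIndex (X ⊔ T) = (X ⊓ T).relIndex (X ⊔ T) :=
    Subgroup.relIndex_mul_relIndex _ _ _ inf_le_right le_sup_right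
  have h3 : T.relIndex (X ⊔ T) = T.relIndex X := Subgroup.relIndex_sup_right X T
  have h4 : (X ⊓ T).relIndex T = X.relIndex T := Subgroup.inf_relIndex_right X T
  have h5 : (T ⊓ X).relIndex X = T.relIndex X := Subgroup.inf_relIndex_right T X
  rw [inf_comm] at h5
  have hpos : (X ⊓ T).relIndex X ≠ 0 := by
    rw [Subgroup.relIndex]
    exact Subgroup.index_ne_zero_of_finite
  have : (X ⊓ T).relIndex X * X.relIndex (X ⊔ T) = (X ⊓ T).relIndex X * X.relIndex T := by
    rw [h1, ← h2, h3, h4, h5, mul_comm]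
  exact Nat.eq_of_mul_eq_mul_left (Nat.pos_of_ne_zero hpos) this

variable {r : ℕ} [hr : Fact r.Prime]

/-- A Sylow subgroup in `M` has index coprime to `r`. -/
theorem not_dvd_relIndex {X M : Subgroup G} (hX : IsSylowIn r X M) :
    ¬ r ∣ X.relIndex M := by
  obtain ⟨S, rfl⟩ := hX
  have h1 : ((S : Subgroup M).map M.subtype).relIndex M = (S : Subgroup M).index := by
    rw [Subgroup.relIndex, Subgroup.subgroupOf,
      Subgroup.comap_map_eq_self_of_injective M.subtype_injective]
  rw [h1]
  exact S.not_dvd_index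

theorem not_dvd_relIndex_normal {X M T : Subgroup G} (hX : IsSylowIn r X M) [T.Normal]
    (hTM : T ≤ M) : ¬ r ∣ X.relIndex T := by
  have hXT : X ⊔ T ≤ M := sup_le hX.le hTM
  have h1 := Subgroup.relIndex_mul_relIndex X (X ⊔ T) M le_sup_left hXT
  rw [relIndex_sup_normal] at h1
  intro hd
  apply not_dvd_relIndex hX
  rw [← h1]
  exact Dvd.dvd.mul_right hd _

omit [Finite G] [hr : Fact r.Prime] in
theorem conj_mul_hom (a b : G) : (MulAut.conj (a * b)).toMonoidHom =
    (MulAut.conj a).toMonoidHom.comp (MulAut.conj b).toMonoidHom := by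
  ext x
  simp [mul_assoc]

omit [Finite G] [hr : Fact r.Prime] in
theorem map_conj_of_mem {X : Subgroup G} {x : G} (hx : x ∈ X) :
    X.map (MulAut.conj x).toMonoidHom = X := by
  ext a
  constructor
  · rintro ⟨b, hb, rfl⟩
    exact X.mul_mem (X.mul_mem hx hb) (X.inv_mem hx)
  · intro ha
    refine ⟨x⁻¹ * a * x, X.mul_mem (X.mul_mem (X.inv_mem hx) ha) hx, ?_⟩
    simp [mul_assoc]

omit [Finite G] [hr : Fact r.Prime] in
theorem mem_normalizer_of_map_eq {X : Subgroup G} {z : G}
    (h : X.map (MulAut.conj z).toMonoidHom = X) : z ∈ Subgroup.normalizer (X : Set G) := by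
  rw [Subgroup.mem_normalizer_iff]
  intro a
  constructor
  · intro ha
    rw [← h]
    exact ⟨a, ha, rfl⟩
  · intro ha
    rw [← h] at ha
    obtain ⟨b, hb, hbe⟩ := ha
    have hbe' : z * b * z⁻¹ = z * a * z⁻¹ := hbe
    have : b = a := by simpa using hbe'
    exact this ▸ hb

/-- The key subgroup lemma: a normal subgroup `Y` of `G` with `Y ∩ N_G(X) ≤ K` lies in `K`. -/
theorem le_of_inf_normalizer_le {K M X Y : Subgroup G} [hKn : K.Normal] [hMn : M.Normal]
    [hYn : Y.Normal] (hX : IsSylowIn r X M) (hM : M = K ⊔ X)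
    (hY : Y ⊓ Subgroup.normalizer (X : Set G) ≤ K) : Y ≤ K := by
  classical
  set T := Y ⊓ M with hT
  have hTn : T.Normal := inferInstance
  have hTM : T ≤ M := inf_le_right
  have hXM : X ≤ M := hX.le
  have hKM : K ≤ M := hM ▸ le_sup_left
  have hTK : T ≤ K := by
    have h1 : ¬ r ∣ X.relIndex T := not_dvd_relIndex_normal hX hTM
    have h2 : K.relIndex T ∣ X.relIndex T := by
      rw [← Subgroup.inf_relIndex_right X T]
      refine Subgroup.relIndex_dvd_of_le_left T ?_
      intro x hx
      exact hY ⟨hx.2.1, Subgroup.le_normalizer hx.1⟩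
    have h3 : ∃ n, K.relIndex T = r ^ n := by
      have h4 : K.relIndex T = K.relIndex (K ⊔ T) := (Subgroup.relIndex_sup_left T K).symm
      have h5 := Subgroup.relIndex_mul_relIndex K (K ⊔ T) M le_sup_left (sup_le hKM hTM)
      have h6 : K.relIndex M = K.relIndex X := by
        conv_lhs => rw [hM]
        exact Subgroup.relIndex_sup_left X K
      obtain ⟨n, hn⟩ := hX.isPGroup.index (K.subgroupOf X)
      have h7 : K.relIndex T ∣ r ^ n := by
        rw [h4, ← hn]
        change _ ∣ K.relIndex X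
        rw [← h6, ← h5]
        exact Dvd.intro _ rfl
      obtain ⟨m, -, hm⟩ := (Nat.dvd_prime_pow hr.out).mp h7
      exact ⟨m, hm⟩
    obtain ⟨n, hn⟩ := h3
    have h7 : K.relIndex T = 1 := by
      cases n with
      | zero => simpa using hn
      | succ n =>
        exfalso
        apply h1
        refine dvd_trans ?_ h2
        rw [hn]
        exact dvd_pow_self _ (by omega)
    exact Subgroup.relIndex_eq_one.mp h7
  intro y hy
  have hyT : ∀ x ∈ X, y * x * y⁻¹ * x⁻¹ ∈ T := by
    intro x hx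
    constructor
    · have h1 := hYn.conj_mem y⁻¹ (Y.inv_mem hy) x
      have h2 := Y.mul_mem hy h1
      simpa [mul_assoc] using h2
    · have h1 := hMn.conj_mem x (hXM hx) y
      exact M.mul_mem h1 (M.inv_mem (hXM hx))
  have hSyl : IsSylowIn r X (T ⊔ X) := hX.of_le le_sup_right (sup_le hTM hXM)
  have hX'A : X.map (MulAut.conj y).toMonoidHom ≤ T ⊔ X := by
    rintro _ ⟨x, hx, rfl⟩
    have h1 : y * x * y⁻¹ = (y * x * y⁻¹ * x⁻¹) * x := by group
    change y * x * y⁻¹ ∈ _
    rw [h1]
    exact Subgroup.mul_mem_sup (hyT x hx) hx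
  have hSyl' : IsSylowIn r (X.map (MulAut.conj y).toMonoidHom) (T ⊔ X) :=
    hSyl.of_card_eq hX'A (card_conj_eq X y)
  obtain ⟨w, hw, hwe⟩ := hSyl.exists_conj hSyl'
  have hw' : w ∈ ((T ⊔ X : Subgroup G) : Set G) := hw
  rw [Subgroup.normal_mul] at hw'
  obtain ⟨t, ht, x₀, hx₀, rfl⟩ := Set.mem_mul.mp hw'
  have ht' : t ∈ T := ht
  have hx₀' : x₀ ∈ X := hx₀
  have hz : t⁻¹ * y ∈ Subgroup.normalizer (X : Set G) := by
    apply mem_normalizer_of_map_eq
    rw [conj_mul_hom, ← Subgroup.map_map, ← hwe, conj_mul_hom, ← Subgroup.map_map,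
      map_conj_of_mem hx₀', Subgroup.map_map, ← conj_mul_hom]
    simp only [inv_mul_cancel]
    ext a
    simp
  have hzY : t⁻¹ * y ∈ Y := Y.mul_mem (Y.inv_mem ht'.1) hy
  have hzK : t⁻¹ * y ∈ K := hY ⟨hzY, hz⟩
  have := K.mul_mem (hTK ht') hzK
  simpa using this

/-- If a Sylow subgroup of a normal subgroup lies in the core of its normalizer, it is normal. -/
theorem normal_of_le_normalCore {X M : Subgroup G} [hMn : M.Normal] (hX : IsSylowIn r X M)
    (h : X ≤ (Subgroup.normalizer (X : Set G)).normalCore) : X.Normal := by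
  constructor
  intro x hx g
  set X' := X.map (MulAut.conj g).toMonoidHom with hX'
  have hX'M : X' ≤ M := by
    rintro _ ⟨a, ha, rfl⟩
    exact hMn.conj_mem a (hX.le ha) g
  have hX'N : X' ≤ Subgroup.normalizer (X : Set G) := by
    rintro _ ⟨a, ha, rfl⟩
    exact Subgroup.normalCore_le _ ((Subgroup.normalCore_normal _).conj_mem a (h ha) g)
  have hp : IsPGroup r X' := hX.isPGroup.map _
  have hQ : IsPGroup r (X ⊔ X' : Subgroup G) :=
    sup_comm X X' ▸ IsPGroup.to_sup_of_normal_right' hp hX.isPGroup hX'N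
  have h1 := hX.eq_of_le (sup_le hX.le hX'M) hQ le_sup_left
  have h2 : X' ≤ X := by
    conv_rhs => rw [← h1]
    exact le_sup_right
  exact h2 ⟨x, hx, rfl⟩

omit hr in
/-- Existence of `M`, `X`. -/
theorem exists_data (K : Subgroup G) [hKn : K.Normal]
    (h : ¬ K ≤ fittingSubgroup G ∨
      (K = fittingSubgroup G ∧ Group.IsSolvable (G ⧸ K) ∧ K ≠ ⊤)) :
    ∃ (M X : Subgroup G) (r : ℕ), M.Normal ∧ r.Prime ∧ IsSylowIn r X M ∧ M = K ⊔ X ∧ ¬ X.Normal ∧
      (M = K ∨ (K < M ∧ Group.IsNilpotent K ∧
        ∀ Z : Subgroup G, Z.Normal → K ≤ Z → Z ≤ M → Z = K ∨ Z = M)) := by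
  classical
  rcases h with h | ⟨h1, h2, h3⟩
  · have hnil : ¬ Group.IsNilpotent K := fun hn => h (le_fittingSubgroup hKn hn)
    have := (Group.isNilpotent_of_finite_tfae (G := K)).out 0 3
    rw [this] at hnil
    push Not at hnil
    obtain ⟨r, hr, P, hP⟩ := hnil
    refine ⟨K, (P : Subgroup K).map K.subtype, r, hKn, hr.out, ⟨P, rfl⟩, ?_, ?_, Or.inl rfl⟩
    · exact (sup_eq_left.mpr (Subgroup.map_subtype_le _)).symm
    · intro hn
      exact hP (Subgroup.Normal.of_map_subtype hn)
  · obtain ⟨M, hMn, hKM, hchief⟩ := exists_minimal_normal_above K h3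
    have hcomm := commutator_le_of_chief (L := K) h2 le_rfl hKM hchief
    obtain ⟨r, a, hr, hra, ha⟩ := exists_prime_relIndex hcomm hKM hchief
    have hfr : Fact r.Prime := ⟨hr⟩
    obtain ⟨S⟩ : Nonempty (Sylow r M) := inferInstance
    set X := (S : Subgroup M).map M.subtype with hX
    have hXS : IsSylowIn r X M := ⟨S, rfl⟩
    have hMeq : M = K ⊔ X := by
      have hle : K ⊔ X ≤ M := sup_le hKM.le hXS.le
      have h4 := Subgroup.relIndex_mul_relIndex X (K ⊔ X) M le_sup_right hle
      have h5 := Subgroup.relIndex_mul_relIndex K (K ⊔ X) M le_sup_left hle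
      have h6 : (K ⊔ X).relIndex M ∣ r ^ a := by
        rw [← hra, ← h5]
        exact Dvd.intro_left _ rfl
      obtain ⟨m, -, hm⟩ := (Nat.dvd_prime_pow hr).mp h6
      have h7 : (K ⊔ X).relIndex M = 1 := by
        cases m with
        | zero => simpa using hm
        | succ m =>
          exfalso
          apply not_dvd_relIndex hXS
          rw [← h4, hm]
          exact Dvd.dvd.mul_left (dvd_pow_self _ (by omega)) _
      exact le_antisymm (Subgroup.relIndex_eq_one.mp h7) hle
    refine ⟨M, X, r, hMn, hr, hXS, hMeq, ?_, Or.inr ⟨hKM, ?_, hchief⟩⟩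
    · intro hn
      have hnil : Group.IsNilpotent X := hXS.isPGroup.isNilpotent
      have : X ≤ K := by
        rw [h1]
        exact le_fittingSubgroup hn hnil
      apply hKM.not_ge
      rw [hMeq]
      exact sup_le le_rfl this
    · rw [h1]
      exact fittingSubgroup_isNilpotent

/-- In the chief case, the intersection of `M` with the core of `N_G(X)` lies in `K`. -/
theorem inf_core_le {K M X : Subgroup G} [hKn : K.Normal] [hMn : M.Normal]
    (hX : IsSylowIn r X M) (hM : M = K ⊔ X) (hnil : Group.IsNilpotent K)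
    (hchief : ∀ Z : Subgroup G, Z.Normal → K ≤ Z → Z ≤ M → Z = K ∨ Z = M)
    (hXC : ¬ X ≤ (Subgroup.normalizer (X : Set G)).normalCore) :
    (Subgroup.normalizer (X : Set G)).normalCore ⊓ M ≤ K := by
  classical
  set C := (Subgroup.normalizer (X : Set G)).normalCore with hC
  have hCn : C.Normal := Subgroup.normalCore_normal _
  set Q := C ⊓ M with hQ
  have hQn : Q.Normal := inferInstance
  have hKM : K ≤ M := hM ▸ le_sup_left
  have hQM : Q ≤ M := inf_le_right
  rcases hchief (Q ⊔ K) inferInstance le_sup_right (sup_le hQM hKM) with h | h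
  · rw [← h]
    exact le_sup_left
  · exfalso
    apply hXC
    -- the Sylow subgroup of `K`
    obtain ⟨S⟩ : Nonempty (Sylow r K) := inferInstance
    have hSn : (S : Subgroup K).Normal := by
      have h0 := (Group.isNilpotent_of_finite_tfae (G := K)).out 0 3
      exact h0.mp hnil r hr S
    have hSc : (S : Subgroup K).Characteristic := Sylow.characteristic_of_normal S hSn
    set O := (S : Subgroup K).map K.subtype with hO
    have hOn : O.Normal := ConjAct.normal_of_characteristic_of_normal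
    have hOS : IsSylowIn r O K := ⟨S, rfl⟩
    have hOX : O ≤ X := by
      have hQ' : IsPGroup r (X ⊔ O : Subgroup G) :=
        IsPGroup.to_sup_of_normal_right hX.isPGroup hOS.isPGroup
      have h1 := hX.eq_of_le (sup_le hX.le (hOS.le.trans hKM)) hQ' le_sup_left
      conv_rhs => rw [← h1]
      exact le_sup_right
    have hOC : O ≤ C := by
      rw [hC, Subgroup.normal_le_normalCore]
      exact hOX.trans Subgroup.le_normalizer
    have hOQ : O ≤ Q := le_inf hOC (hOS.le.trans hKM)
    have h1 : ¬ r ∣ O.relIndex K := not_dvd_relIndex hOS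
    have h2 : Q.relIndex K ∣ O.relIndex K := Subgroup.relIndex_dvd_of_le_left K hOQ
    have h3 : Q.relIndex M = Q.relIndex K := by
      conv_lhs => rw [← h]
      exact Subgroup.relIndex_sup_left K Q
    have h4 : Q.relIndex X ∣ Q.relIndex M := by
      have h5 := Subgroup.relIndex_mul_relIndex Q (Q ⊔ X) M le_sup_left (sup_le hQM hX.le)
      rw [Subgroup.relIndex_sup_left] at h5
      rw [← h5]
      exact Dvd.intro _ rfl
    obtain ⟨n, hn⟩ := hX.isPGroup.index (Q.subgroupOf X)
    have h6 : Q.relIndex X = r ^ n := hn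
    have h7 : Q.relIndex X = 1 := by
      cases n with
      | zero => simpa using h6
      | succ n =>
        exfalso
        apply h1
        refine dvd_trans ?_ h2
        rw [← h3]
        refine dvd_trans ?_ h4
        rw [h6]
        exact dvd_pow_self _ (by omega)
    exact (Subgroup.relIndex_eq_one.mp h7).trans inf_le_left

end Cfsg.Agent.Lib.KerFit.Group
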